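import Groth.Agent.Lib.ClosedAlong.Sections
import Groth.Agent.Lib.Depth.Basic
import Groth.Agent.Lib.Depth.BaseChange

/-! Purity and closedness along `Z`, and depth. -/

set_option autoImplicit false
set_option linter.style.haveILetI false
universe u

open IsLocalRing Pointwise

namespace Groth.Agent.ClosedAlong

variable {A : Type u} [CommRing A] [IsNoetherianRing A] {M : Type u} [AddCommGroup M] [Module A M]

theorem exists_le_associatedPrime {J : Ideal A} {m : M} (hm : m ≠ 0)
    (h : ∀ g ∈ J, ∃ n : ℕ, g ^ n • m = 0) : ∃ q ∈ associatedPrimes A M, J ≤ q := by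
  obtain ⟨q, hq, hle⟩ := exists_le_isAssociatedPrime_of_isNoetherianRing A m hm
  refine ⟨q, hq, fun g hg => ?_⟩
  obtain ⟨n, hn⟩ := h g hg
  exact hq.isPrime.mem_of_pow_mem n (hle (Submodule.mem_colon_singleton.mpr (by simpa using hn)))

theorem isPureAlong_iff (Z : Set (PrimeSpectrum A)) (hZ : StableUnderSpecialization Z) :
    EGA4.IsPureAlong Z M ↔ ∀ p : PrimeSpectrum A, p.asIdeal ∈ associatedPrimes A M → p ∉ Z := by
  constructor
  · intro h p hp hpZ
    obtain ⟨hprime, m, hm⟩ := isAssociatedPrime_iff.mp hp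
    have hJ : PrimeSpectrum.zeroLocus (p.asIdeal : Set A) ⊆ Z := fun q hq =>
      hZ ((PrimeSpectrum.le_iff_specializes p q).mp hq) hpZ
    have h0 := (injective_restrCompl_iff p.asIdeal M).mp (h p.asIdeal hJ) m fun g hg => ⟨1, by
      rw [hm, Submodule.mem_colon_singleton] at hg
      simpa using hg⟩
    refine hprime.ne_top ?_
    rw [hm, Ideal.eq_top_iff_one, Submodule.mem_colon_singleton, h0, smul_zero]
    exact zero_mem _
  · intro h J hJ
    rw [injective_restrCompl_iff]
    intro m hm
    by_contra hne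
    obtain ⟨q, hq, hJq⟩ := exists_le_associatedPrime hne hm
    exact h ⟨q, hq.isPrime⟩ hq (hJ hJq)

theorem maximalIdeal_notMem_associatedPrimes {R N : Type u} [CommRing R] [IsLocalRing R]
    [AddCommGroup N] [Module R N] [Nontrivial N] [IsNoetherianRing R] [Module.Finite R N]
    (h : 1 ≤ LocCoh.depth R N) :
    ∀ z : N, (∀ a ∈ maximalIdeal R, a • z = 0) → z = 0 := by
  intro z hz
  have htop : maximalIdeal R • (⊤ : Submodule R N) ≠ ⊤ := fun e => by
    refine absurd (Submodule.eq_bot_of_le_smul_of_le_jacobson_bot (maximalIdeal R) (⊤ : Submodule R N)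
      Module.Finite.fg_top e.ge (IsLocalRing.jacobson_eq_maximalIdeal ⊥ bot_ne_top).ge) ?_
    exact top_ne_bot
  have h' : ((1 : ℕ) : ℕ∞) ≤ LocCoh.idealDepth (maximalIdeal R) N := by exact_mod_cast h
  obtain ⟨rs, ⟨hreg, hmem⟩, hlen⟩ := (DepthLib.natCast_le_idealDepth_iff_exists htop 1).mp h'
  cases rs with
  | nil => simp at hlen
  | cons r rs =>
    have hr := ((RingTheory.Sequence.isWeaklyRegular_cons_iff N r rs).mp hreg).1
    exact hr (show r • z = r • (0 : N) by rw [smul_zero]; exact hz r (hmem r (by simp)))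

/-- depth at least one at `p` means `p` is not associated. -/
theorem notMem_associatedPrimes_of_one_le_depth [Module.Finite A M] (p : Ideal A) [p.IsPrime]
    (h : 1 ≤ LocCoh.depth (Localization.AtPrime p) (LocalizedModule p.primeCompl M)) :
    p ∉ associatedPrimes A M := by
  intro hp
  obtain ⟨-, m, hm⟩ := isAssociatedPrime_iff.mp hp
  have hne : LocalizedModule.mkLinearMap p.primeCompl M m ≠ 0 := by
    rw [ne_eq, IsLocalizedModule.eq_zero_iff p.primeCompl]
    rintro ⟨t, ht⟩
    exact t.2 (hm.symm.le (Submodule.mem_colon_singleton.mpr (by simpa [Submonoid.smul_def] using ht)))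
  haveI : Nontrivial (LocalizedModule p.primeCompl M) := nontrivial_of_ne _ _ hne
  refine hne (maximalIdeal_notMem_associatedPrimes h _ fun a ha => ?_)
  rw [← Localization.AtPrime.map_eq_maximalIdeal] at ha
  induction ha using Submodule.span_induction with
  | mem a ha =>
    obtain ⟨b, hb, rfl⟩ := ha
    rw [algebraMap_smul, ← map_smul]
    have : b • m = 0 := by
      have := hm.le hb
      simpa using Submodule.mem_colon_singleton.mp this
    rw [this, map_zero]
  | zero => rw [zero_smul]
  | add a b _ _ ha hb => rw [add_smul, ha, hb, add_zero]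
  | smul a b _ hb => rw [smul_eq_mul, mul_smul, hb, smul_zero]

theorem one_le_depth_of_notMem_associatedPrimes [Module.Finite A M] (p : Ideal A) [p.IsPrime]
    (h : p ∉ associatedPrimes A M) :
    1 ≤ LocCoh.depth (Localization.AtPrime p) (LocalizedModule p.primeCompl M) := by
  by_cases hex : ∃ r ∈ maximalIdeal (Localization.AtPrime p),
      IsSMulRegular (LocalizedModule p.primeCompl M) r
  · obtain ⟨r, hr, hreg⟩ := hex
    exact DepthLib.one_le_idealDepth_of_regular hr hreg
  · push Not at hex
    obtain ⟨q, hq, hle⟩ := DepthLib.exists_associatedPrime_ge hex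
    refine absurd ?_ h
    rw [← (maximalIdeal.isMaximal (Localization.AtPrime p)).eq_of_le hq.isPrime.ne_top hle] at hq
    have := Module.associatedPrimes.preimage_comap_associatedPrimes_eq_associatedPrimes_of_isLocalizedModule
      (R' := Localization.AtPrime p) p.primeCompl (LocalizedModule.mkLinearMap p.primeCompl M)
    rw [← this, Set.mem_preimage] at hq
    have e : Ideal.comap (algebraMap A (Localization.AtPrime p)) (maximalIdeal (Localization.AtPrime p)) = p :=
      Localization.AtPrime.under_maximalIdeal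
    rwa [e] at hq

theorem isPureAlong_iff_depth [Module.Finite A M] (Z : Set (PrimeSpectrum A))
    (hZ : StableUnderSpecialization Z) :
    EGA4.IsPureAlong Z M ↔ ∀ p : PrimeSpectrum A, p ∈ Z →
      (1 : ℕ∞) ≤ LocCoh.depth (Localization.AtPrime p.asIdeal) (LocalizedModule p.asIdeal.primeCompl M) := by
  rw [isPureAlong_iff Z hZ]
  exact ⟨fun h p hp => one_le_depth_of_notMem_associatedPrimes _ fun hq => h p hq hp,
    fun h p hq hp => notMem_associatedPrimes_of_one_le_depth _ (h p hp) hq⟩

theorem exists_regular_mem [Module.Finite A M] {J : Ideal A}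
    (h : ∀ q ∈ associatedPrimes A M, ¬ J ≤ q) : ∃ x ∈ J, IsSMulRegular M x := by
  by_contra hc
  push Not at hc
  obtain ⟨q, hq, hle⟩ := DepthLib.exists_associatedPrime_ge hc
  exact h q hq hle

theorem isClosedAlong_iff_depth [Module.Finite A M] (Z : Set (PrimeSpectrum A))
    (hZ : StableUnderSpecialization Z) :
    EGA4.IsClosedAlong Z M ↔ ∀ p : PrimeSpectrum A, p ∈ Z →
      (2 : ℕ∞) ≤ LocCoh.depth (Localization.AtPrime p.asIdeal) (LocalizedModule p.asIdeal.primeCompl M) := by
  constructor
  · intro h p hp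
    have hpure : EGA4.IsPureAlong Z M := fun J hJ => (h J hJ).1
    have hJ : PrimeSpectrum.zeroLocus (p.asIdeal : Set A) ⊆ Z := fun q hq =>
      hZ ((PrimeSpectrum.le_iff_specializes p q).mp hq) hp
    have hass := (isPureAlong_iff Z hZ).mp hpure
    obtain ⟨x, hxp, hx⟩ := exists_regular_mem (M := M) (J := p.asIdeal) fun q hq hle =>
      hass ⟨q, hq.isPrime⟩ hq (hJ hle)
    have hcl := (bijective_restrCompl_iff p.asIdeal M hxp hx).mp (h p.asIdeal hJ)
    have hxm : algebraMap A (Localization.AtPrime p.asIdeal) x ∈ maximalIdeal (Localization.AtPrime p.asIdeal) :=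
      (IsLocalization.AtPrime.to_map_mem_maximal_iff _ p.asIdeal x).mpr hxp
    have hxr : IsSMulRegular (LocalizedModule p.asIdeal.primeCompl M)
        (algebraMap A (Localization.AtPrime p.asIdeal) x) :=
      IsSMulRegular.of_isLocalizedModule (Localization.AtPrime p.asIdeal) p.asIdeal.primeCompl
        (LocalizedModule.mkLinearMap p.asIdeal.primeCompl M) hx
    refine (DepthLib.natCast_le_idealDepth_quotSMulTop_iff (I := maximalIdeal (Localization.AtPrime p.asIdeal))
      hxm hxr 1).mp ?_
    rw [Nat.cast_one]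
    by_cases hex : ∃ r ∈ maximalIdeal (Localization.AtPrime p.asIdeal),
        IsSMulRegular (QuotSMulTop (algebraMap A (Localization.AtPrime p.asIdeal) x)
          (LocalizedModule p.asIdeal.primeCompl M)) r
    · obtain ⟨r, hr, hreg⟩ := hex
      exact DepthLib.one_le_idealDepth_of_regular hr hreg
    exfalso
    push Not at hex
    obtain ⟨q, hq, hle⟩ := DepthLib.exists_associatedPrime_ge hex
    obtain ⟨hqp, z, hz⟩ := isAssociatedPrime_iff.mp hq
    rw [← (maximalIdeal.isMaximal _).eq_of_le hqp.ne_top hle] at hz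
    obtain ⟨z, rfl⟩ := Submodule.Quotient.mk_surjective _ z
    obtain ⟨⟨m, s⟩, rfl⟩ := IsLocalizedModule.mk'_surjective p.asIdeal.primeCompl
      (LocalizedModule.mkLinearMap p.asIdeal.primeCompl M) z
    have key : ∀ g ∈ p.asIdeal, ∃ t : p.asIdeal.primeCompl, ∃ m' : M, x • m' = (t : A) • g • m := by
      intro g hg
      have hgm : algebraMap A (Localization.AtPrime p.asIdeal) g ∈ maximalIdeal (Localization.AtPrime p.asIdeal) :=
        (IsLocalization.AtPrime.to_map_mem_maximal_iff _ p.asIdeal g).mpr hg
      rw [hz, Submodule.mem_colon_singleton, Submodule.mem_bot, ← Submodule.Quotient.mk_smul,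
        Submodule.Quotient.mk_eq_zero, Submodule.mem_smul_pointwise_iff_exists] at hgm
      obtain ⟨w, -, hw⟩ := hgm
      obtain ⟨⟨m', u⟩, rfl⟩ := IsLocalizedModule.mk'_surjective p.asIdeal.primeCompl
        (LocalizedModule.mkLinearMap p.asIdeal.primeCompl M) w
      simp only [Function.uncurry_apply_pair, algebraMap_smul, ← IsLocalizedModule.mk'_smul,
        IsLocalizedModule.mk'_eq_mk'_iff] at hw
      obtain ⟨c, hc⟩ := hw
      simp only [Submonoid.smul_def] at hc
      refine ⟨c * u, (c : A) • (s : A) • m', ?_⟩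
      rw [Submonoid.coe_mul, mul_smul, smul_comm x (c : A), smul_comm x (s : A)]
      exact hc.symm
    obtain ⟨G, hG⟩ := (IsNoetherian.noetherian p.asIdeal : Submodule.FG _)
    choose t m' ht using fun g : G => key g.1 (hG ▸ Ideal.subset_span g.2)
    let T : A := ∏ g, (t g : A)
    have hT : T ∈ p.asIdeal.primeCompl := Submonoid.prod_mem _ fun g _ => (t g).2
    have hcol : ∀ g ∈ p.asIdeal, ∃ w : M, x • w = g • T • m := by
      intro g hg
      rw [← hG] at hg
      induction hg using Submodule.span_induction with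
      | mem g hg =>
        obtain ⟨c, hc⟩ := Finset.dvd_prod_of_mem (fun g => (t g : A)) (Finset.mem_univ (⟨g, hg⟩ : G))
        refine ⟨c • m' ⟨g, hg⟩, ?_⟩
        rw [smul_comm, ht, smul_comm g]
        change c • (t _ : A) • g • m = T • g • m
        rw [smul_smul, mul_comm c, ← hc]
      | zero => exact ⟨0, by simp⟩
      | add a b _ _ ha hb =>
        obtain ⟨w, hw⟩ := ha
        obtain ⟨w', hw'⟩ := hb
        exact ⟨w + w', by rw [smul_add, hw, hw', add_smul]⟩
      | smul a b _ hb =>
        obtain ⟨w, hw⟩ := hb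
        exact ⟨a • w, by rw [smul_comm, hw, smul_eq_mul, mul_smul]⟩
    obtain ⟨w, hw⟩ := hcl (T • m) 1 fun g hg => ⟨1, by simpa using hcol g hg⟩
    rw [pow_one] at hw
    have hone : (1 : Localization.AtPrime p.asIdeal) ∈ maximalIdeal (Localization.AtPrime p.asIdeal) := by
      rw [hz, Submodule.mem_colon_singleton, Submodule.mem_bot, one_smul, Submodule.Quotient.mk_eq_zero,
        Submodule.mem_smul_pointwise_iff_exists]
      refine ⟨IsLocalizedModule.mk' (LocalizedModule.mkLinearMap p.asIdeal.primeCompl M) w (⟨T, hT⟩ * s),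
        trivial, ?_⟩
      simp only [Function.uncurry_apply_pair, algebraMap_smul, ← IsLocalizedModule.mk'_smul, hw]
      rw [show T • m = (⟨T, hT⟩ : p.asIdeal.primeCompl) • m from rfl,
        IsLocalizedModule.mk'_cancel_left]
    exact (maximalIdeal.isMaximal _).ne_top ((Ideal.eq_top_iff_one _).mpr hone)
  · intro h J hJ
    have hass : ∀ q ∈ associatedPrimes A M, ¬ J ≤ q := fun q hq hle =>
      haveI := hq.isPrime
      notMem_associatedPrimes_of_one_le_depth q
        (le_trans one_le_two (h ⟨q, hq.isPrime⟩ (hJ hle))) hq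
    obtain ⟨x, hxJ, hx⟩ := exists_regular_mem hass
    rw [bijective_restrCompl_iff J M hxJ hx]
    intro m k hm
    by_contra hne
    have hne' : (Submodule.Quotient.mk m : M ⧸ (x ^ k) • (⊤ : Submodule A M)) ≠ 0 := by
      rw [ne_eq, Submodule.Quotient.mk_eq_zero, Submodule.mem_smul_pointwise_iff_exists]
      exact fun ⟨w, _, hw⟩ => hne ⟨w, hw⟩
    obtain ⟨q, hq, hJq⟩ := exists_le_associatedPrime (J := J) hne' fun g hg => by
      obtain ⟨n, m', hm'⟩ := hm g hg
      refine ⟨n, ?_⟩
      rw [← Submodule.Quotient.mk_smul, Submodule.Quotient.mk_eq_zero, ← hm']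
      exact Submodule.smul_mem_pointwise_smul _ _ _ trivial
    haveI := hq.isPrime
    obtain ⟨-, y, hy⟩ := isAssociatedPrime_iff.mp hq
    obtain ⟨y, rfl⟩ := Submodule.Quotient.mk_surjective _ y
    let f := LocalizedModule.mkLinearMap q.primeCompl M
    have hxm : algebraMap A (Localization.AtPrime q) (x ^ k) ∈ maximalIdeal (Localization.AtPrime q) := by
      rcases Nat.eq_zero_or_pos k with rfl | hk
      · exact absurd ⟨m, by simp⟩ hne
      · exact (IsLocalization.AtPrime.to_map_mem_maximal_iff _ q _).mpr (Ideal.pow_mem_of_mem _ (hJq hxJ) k hk)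
    have hxr : IsSMulRegular (LocalizedModule q.primeCompl M)
        (algebraMap A (Localization.AtPrime q) (x ^ k)) :=
      IsSMulRegular.of_isLocalizedModule (Localization.AtPrime q) q.primeCompl f (hx.pow k)
    have hd : ((1 : ℕ) : ℕ∞) ≤ LocCoh.idealDepth (maximalIdeal (Localization.AtPrime q))
        (QuotSMulTop (algebraMap A (Localization.AtPrime q) (x ^ k)) (LocalizedModule q.primeCompl M)) :=
      (DepthLib.natCast_le_idealDepth_quotSMulTop_iff hxm hxr 1).mpr (h ⟨q, hq.isPrime⟩ (hJ hJq))
    have hy0 : (Submodule.Quotient.mk (f y) :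
        QuotSMulTop (algebraMap A (Localization.AtPrime q) (x ^ k)) (LocalizedModule q.primeCompl M)) ≠ 0 := by
      rw [ne_eq, Submodule.Quotient.mk_eq_zero, Submodule.mem_smul_pointwise_iff_exists]
      rintro ⟨w, -, hw⟩
      obtain ⟨⟨m', u⟩, rfl⟩ := IsLocalizedModule.mk'_surjective q.primeCompl f w
      rw [algebraMap_smul, Function.uncurry_apply_pair, ← IsLocalizedModule.mk'_smul,
        IsLocalizedModule.mk'_eq_iff, ← LinearMap.map_smul_of_tower, IsLocalizedModule.eq_iff_exists q.primeCompl] at hw
      obtain ⟨c, hc⟩ := hw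
      refine (c * u).2 (hy.symm.le ?_)
      rw [Submodule.mem_colon_singleton, Submodule.mem_bot, ← Submodule.Quotient.mk_smul,
        Submodule.Quotient.mk_eq_zero]
      have : ((c * u : q.primeCompl) : A) • y = (x ^ k) • (c : A) • m' := by
        rw [Submonoid.coe_mul, mul_smul, smul_comm (x ^ k) (c : A)]
        exact hc.symm
      rw [this]
      exact Submodule.smul_mem_pointwise_smul _ _ _ trivial
    haveI : Nontrivial (QuotSMulTop (algebraMap A (Localization.AtPrime q) (x ^ k))
        (LocalizedModule q.primeCompl M)) := nontrivial_of_ne _ _ hy0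
    refine hy0 (maximalIdeal_notMem_associatedPrimes (by exact_mod_cast hd) _ fun a ha => ?_)
    rw [← Localization.AtPrime.map_eq_maximalIdeal] at ha
    induction ha using Submodule.span_induction with
    | mem a ha =>
      obtain ⟨b, hb, rfl⟩ := ha
      have hb' : b • y ∈ (x ^ k) • (⊤ : Submodule A M) := by
        have := hy.le hb
        rwa [Submodule.mem_colon_singleton, Submodule.mem_bot, ← Submodule.Quotient.mk_smul,
          Submodule.Quotient.mk_eq_zero] at this
      obtain ⟨w, -, hw⟩ := (Submodule.mem_smul_pointwise_iff_exists _ _ _).mp hb'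
      rw [← Submodule.Quotient.mk_smul, Submodule.Quotient.mk_eq_zero, algebraMap_smul, ← map_smul, ← hw,
        map_smul, ← algebraMap_smul (Localization.AtPrime q) (x ^ k)]
      exact Submodule.smul_mem_pointwise_smul _ _ _ trivial
    | zero => rw [zero_smul]
    | add a b _ _ ha hb => rw [add_smul, ha, hb, add_zero]
    | smul a b _ hb => rw [smul_eq_mul, mul_smul, hb, smul_zero]

end Groth.Agent.ClosedAlong

namespace Groth.Agent.ClosedAlong

variable {A : Type u} [CommRing A] {M : Type u} [AddCommGroup M] [Module A M]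

theorem supportDim_localizedModule_eq_height (h : Module.support A M = Set.univ)
    (p : Ideal A) [p.IsPrime] :
    Module.supportDim (Localization.AtPrime p) (LocalizedModule p.primeCompl M) =
      ((p.height : ℕ∞) : WithBot ℕ∞) := by
  rw [← IsLocalization.AtPrime.ringKrullDim_eq_height p (Localization.AtPrime p)]
  have hs : Module.support (Localization.AtPrime p) (LocalizedModule p.primeCompl M) = Set.univ := by
    refine Set.eq_univ_of_forall fun P => ?_
    let P' : PrimeSpectrum A := PrimeSpectrum.comap (algebraMap A (Localization.AtPrime p)) P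
    obtain ⟨m, hm⟩ := Module.mem_support_iff'.mp (h.symm ▸ Set.mem_univ P' : P' ∈ Module.support A M)
    refine Module.mem_support_iff'.mpr ⟨LocalizedModule.mkLinearMap p.primeCompl M m, fun r hr => ?_⟩
    intro hzero
    obtain ⟨⟨a, s⟩, rfl⟩ := IsLocalization.mk'_surjective p.primeCompl r
    rw [← IsLocalizedModule.mk'_one p.primeCompl (LocalizedModule.mkLinearMap p.primeCompl M),
      IsLocalizedModule.mk'_smul_mk', IsLocalizedModule.mk'_eq_zero'] at hzero
    obtain ⟨t, ht⟩ := hzero
    rw [Submonoid.smul_def, smul_smul] at ht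
    refine hm ((t : A) * a) (fun hmem => ?_) ht
    rcases P'.2.mem_or_mem hmem with h1 | h1
    · exact P.2.ne_top (P.asIdeal.eq_top_of_isUnit_mem h1 (IsLocalization.map_units _ t))
    · exact hr ((IsLocalization.mk'_mem_iff).mpr h1)
  rw [Module.supportDim, hs, ringKrullDim]
  exact Order.krullDim_eq_of_orderIso OrderIso.Set.univ

theorem stableUnderSpecialization_Zge (n : ℕ) : StableUnderSpecialization (EGA4.Zge A n) :=
  fun _ _ h hp => le_trans hp (Ideal.height_mono ((PrimeSpectrum.le_iff_specializes _ _).mpr h))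

theorem hasSk_iff (h : Module.support A M = Set.univ) (k : ℕ) :
    LocCoh.HasSk k A M ↔ ∀ p : PrimeSpectrum A, min (k : ℕ∞) p.asIdeal.height ≤
      LocCoh.depth (Localization.AtPrime p.asIdeal) (LocalizedModule p.asIdeal.primeCompl M) := by
  refine ⟨fun H p => ?_, fun H p _ => ?_⟩
  · have := H p.asIdeal
    rw [supportDim_localizedModule_eq_height h] at this
    exact_mod_cast this
  · rw [supportDim_localizedModule_eq_height h]
    exact_mod_cast H ⟨p, ‹_›⟩

theorem hasSk_one_iff [IsNoetherianRing A] [Module.Finite A M] (h : Module.support A M = Set.univ) :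
    LocCoh.HasSk 1 A M ↔ EGA4.IsPureAlong (EGA4.Zge A 1) M := by
  rw [hasSk_iff h, isPureAlong_iff_depth _ (stableUnderSpecialization_Zge 1)]
  refine forall_congr' fun p => ?_
  rcases eq_or_ne p.asIdeal.height 0 with h0 | h0
  · simp [h0, EGA4.Zge]
  · have h1 : ((1 : ℕ) : ℕ∞) ≤ p.asIdeal.height := by exact_mod_cast Order.one_le_iff_pos.mpr (pos_iff_ne_zero.mpr h0)
    rw [min_eq_left h1]
    exact ⟨fun e _ => by exact_mod_cast e, fun e => by exact_mod_cast e h1⟩

theorem hasSk_two_iff [IsNoetherianRing A] [Module.Finite A M] (h : Module.support A M = Set.univ) :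
    LocCoh.HasSk 2 A M ↔ (EGA4.IsClosedAlong (EGA4.Zge A 2) M ∧ EGA4.IsPureAlong (EGA4.Zge A 1) M) := by
  rw [isClosedAlong_iff_depth _ (stableUnderSpecialization_Zge 2),
    isPureAlong_iff_depth _ (stableUnderSpecialization_Zge 1), hasSk_iff h]
  refine ⟨fun H => ⟨fun p hp => ?_, fun p hp => ?_⟩, fun ⟨H2, H1⟩ p => ?_⟩
  · exact le_trans (le_min (le_refl _) hp) (H p)
  · exact le_trans (le_min (by norm_num) (by exact_mod_cast hp)) (H p)
  · by_cases h2 : ((2 : ℕ) : ℕ∞) ≤ p.asIdeal.height
    · exact le_trans (min_le_left _ _) (by exact_mod_cast H2 p h2)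
    · by_cases h1 : ((1 : ℕ) : ℕ∞) ≤ p.asIdeal.height
      · refine le_trans (le_trans (min_le_right _ _) ?_) (H1 p h1)
        have : p.asIdeal.height < ((1 + 1 : ℕ) : ℕ∞) := not_le.mp h2
        rw [Nat.cast_add, Nat.cast_one] at this
        exact Order.le_of_lt_add_one this
      · have : p.asIdeal.height = 0 := ENat.lt_one_iff_eq_zero.mp (by exact_mod_cast not_le.mp h1)
        simp [this]

end Groth.Agent.ClosedAlong
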