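import Groth.Prelude.Def_EGA4c
import Mathlib

/-! Sections of `M~` over the complement of `V(J)`. -/

set_option autoImplicit false
set_option linter.style.haveILetI false
universe u

open AlgebraicGeometry CategoryTheory TopologicalSpace Opposite

namespace Groth.Agent.ClosedAlong

variable {R : CommRingCat.{u}} (J : Ideal R) (M : ModuleCat.{u} R)

/-- `D(g)`, typed as an open of `Spec R`. -/
noncomputable def dOpen (g : R) : (Spec R).Opens := PrimeSpectrum.basicOpen g

/-- the complement of `V(J)`. -/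
def cOpen : (Spec R).Opens :=
  ⟨(PrimeSpectrum.zeroLocus (J : Set R))ᶜ, (PrimeSpectrum.isClosed_zeroLocus _).isOpen_compl⟩

/-- sections of `M~` over an open, as an `R`-module. -/
noncomputable abbrev Sec (U : (Spec R).Opens) :=
  (modulesSpecToSheaf.obj (tilde M)).presheaf.obj (op U)

/-- the canonical map `M → Γ(U, M~)`. -/
noncomputable abbrev toSec (U : (Spec R).Opens) : M →ₗ[R] Sec M U :=
  (tilde.toOpen M U).hom

/-- restriction of sections. -/
noncomputable abbrev res {U V : (Spec R).Opens} (h : V ≤ U) :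
    Sec M U →ₗ[R] Sec M V :=
  ((modulesSpecToSheaf.obj (tilde M)).presheaf.map (homOfLE h).op).hom

theorem res_toSec {U V : (Spec R).Opens} (h : V ≤ U) (m : M) :
    res M h (toSec M U m) = toSec M V m :=
  congr($(tilde.toOpen_res M U V (homOfLE h)) m)

theorem res_res {U V W : (Spec R).Opens} (h : V ≤ U) (h' : W ≤ V) (s : Sec M U) :
    res M h' (res M h s) = res M (h'.trans h) s := by
  change ((modulesSpecToSheaf.obj (tilde M)).presheaf.map (homOfLE h).op ≫
    (modulesSpecToSheaf.obj (tilde M)).presheaf.map (homOfLE h').op) s = _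
  rw [← Functor.map_comp]
  rfl

instance isLocalizedModule_toSec (g : R) :
    IsLocalizedModule (Submonoid.powers g) (toSec M (dOpen g)) :=
  inferInstanceAs (IsLocalizedModule (Submonoid.powers g)
    (tilde.toOpen M (PrimeSpectrum.basicOpen g)).hom)

theorem dOpen_mul (g h : R) : dOpen (g * h) = dOpen g ⊓ dOpen h := PrimeSpectrum.basicOpen_mul g h

theorem le_openCompl (g : J) :
    dOpen (g : R) ≤ cOpen J :=
  fun _ hp hp' => hp (hp' g.2)

theorem openCompl_le :
    cOpen J ≤ ⨆ g : J, dOpen (g : R) := by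
  intro p hp
  obtain ⟨g, hgJ, hg⟩ := Set.not_subset.mp (show ¬ (J : Set R) ⊆ p.asIdeal from hp)
  exact Opens.mem_iSup.mpr ⟨⟨g, hgJ⟩, hg⟩

theorem ext_of_basicOpen {s t : Sec M (cOpen J)}
    (h : ∀ g : J, res M (le_openCompl J g) s = res M (le_openCompl J g) t) : s = t :=
  (modulesSpecToSheaf.obj (tilde M)).eq_of_locally_eq'
    (fun g : J => dOpen (g : R))
    (cOpen J) (fun g => homOfLE (le_openCompl J g)) (openCompl_le J) s t h

theorem toSec_basicOpen_eq_zero_iff (g : R) (m : M) :
    toSec M (dOpen g) m = 0 ↔ ∃ n : ℕ, g ^ n • m = 0 := by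
  rw [IsLocalizedModule.eq_zero_iff (Submonoid.powers g)]
  exact ⟨fun ⟨⟨_, n, rfl⟩, h⟩ => ⟨n, h⟩, fun ⟨n, h⟩ => ⟨⟨_, n, rfl⟩, h⟩⟩

theorem toSec_eq_zero_iff (m : M) :
    toSec M (cOpen J) m = 0 ↔ ∀ g ∈ J, ∃ n : ℕ, g ^ n • m = 0 := by
  constructor
  · intro h g hg
    rw [← toSec_basicOpen_eq_zero_iff, ← res_toSec M (le_openCompl J ⟨g, hg⟩), h, map_zero]
  · intro h
    refine ext_of_basicOpen J M fun g => ?_
    rw [res_toSec, map_zero]
    exact (toSec_basicOpen_eq_zero_iff M _ m).mpr (h g g.2)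

theorem exists_pow_smul_eq_toSec (g : R) (t : Sec M (dOpen g)) :
    ∃ (i : ℕ) (m : M), g ^ i • t = toSec M (dOpen g) m := by
  obtain ⟨⟨m, u⟩, h⟩ := IsLocalizedModule.surj (Submonoid.powers g) (toSec M (dOpen g)) t
  obtain ⟨i, hi⟩ := u.2
  exact ⟨i, m, by rw [show g ^ i = (u : R) from hi]; exact h⟩

theorem toSec_top_bijective : Function.Bijective (toSec M (⊤ : (Spec R).Opens)) :=
  ConcreteCategory.bijective_of_isIso (tilde.toOpen M ⊤)

theorem res_top_comp :
    res M (le_top : cOpen J ≤ ⊤) ∘ toSec M ⊤ = toSec M (cOpen J) :=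
  funext fun m => res_toSec M (le_top : cOpen J ≤ ⊤) m

theorem injective_res_iff :
    Function.Injective (res M (le_top : cOpen J ≤ ⊤)) ↔
      ∀ m : M, (∀ g ∈ J, ∃ n : ℕ, g ^ n • m = 0) → m = 0 := by
  have h1 : Function.Injective (res M (le_top : cOpen J ≤ ⊤)) ↔
      Function.Injective (toSec M (cOpen J)) := by
    rw [← res_top_comp]
    exact (Function.Injective.of_comp_iff' _ (toSec_top_bijective M)).symm
  rw [h1, injective_iff_map_eq_zero]
  exact forall_congr' fun m => by rw [toSec_eq_zero_iff]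

variable {J M}

theorem isSMulRegular_sec_basicOpen {x : R} (hx : IsSMulRegular M x) (g : R) :
    IsSMulRegular (Sec M (dOpen g)) x := by
  intro a b hab
  obtain ⟨⟨m, t⟩, ha⟩ := IsLocalizedModule.surj (Submonoid.powers g) (toSec M (dOpen g)) (a - b)
  have h0 : toSec M (dOpen g) (x • m) = 0 := by
    rw [map_smul, ← ha, Submonoid.smul_def, smul_comm, smul_sub]
    simp only [sub_eq_zero.mpr hab, smul_zero]
  obtain ⟨n, hn⟩ := (toSec_basicOpen_eq_zero_iff M g _).mp h0
  have h1 : g ^ n • m = 0 := hx (show x • g ^ n • m = x • 0 by rw [smul_zero, smul_comm]; exact hn)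
  have h2 : toSec M (dOpen g) m = 0 := (toSec_basicOpen_eq_zero_iff M g m).mpr ⟨n, h1⟩
  rw [← sub_eq_zero]
  refine (IsLocalizedModule.map_units (toSec M (dOpen g)) t |> fun h =>
    ((Module.End.isUnit_iff _).mp h).injective) ?_
  simp only [Module.algebraMap_end_apply, smul_zero]
  exact ha.trans h2

theorem isSMulRegular_sec {x : R} (hx : IsSMulRegular M x) :
    IsSMulRegular (Sec M (cOpen J)) x := by
  intro a b hab
  refine ext_of_basicOpen J M fun g => isSMulRegular_sec_basicOpen hx g.1 ?_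
  simpa only [map_smul] using congrArg (res M (le_openCompl J g)) hab

theorem surjective_toSec_iff {x : R} (hxJ : x ∈ J) (hx : IsSMulRegular M x) :
    Function.Surjective (toSec M (cOpen J)) ↔
      ∀ (m : M) (k : ℕ), (∀ g ∈ J, ∃ n : ℕ, ∃ m' : M, x ^ k • m' = g ^ n • m) →
        ∃ m' : M, x ^ k • m' = m := by
  constructor
  · intro hs m k hm
    have hloc : ∀ g : J, ∃ s : Sec M (dOpen (g : R)),
        x ^ k • s = toSec M (dOpen (g : R)) m := by
      intro g
      obtain ⟨n, m', hm'⟩ := hm g g.2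
      obtain ⟨s, hs⟩ := ((Module.End.isUnit_iff _).mp (IsLocalizedModule.map_units
        (toSec M (dOpen (g : R))) (⟨_, n, rfl⟩ : Submonoid.powers (g : R)))).surjective
          (toSec M (dOpen (g : R)) m')
      rw [Module.algebraMap_end_apply] at hs
      refine ⟨s, ((Module.End.isUnit_iff _).mp (IsLocalizedModule.map_units
        (toSec M (dOpen (g : R))) (⟨_, n, rfl⟩ : Submonoid.powers (g : R)))).injective ?_⟩
      simp only [Module.algebraMap_end_apply]
      rw [smul_comm, hs, ← map_smul, hm', map_smul]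
    choose sf hsf using hloc
    have hc : TopCat.Presheaf.IsCompatible (modulesSpecToSheaf.obj (tilde M)).1
        (fun g : J => dOpen (g : R)) sf := by
      intro g h
      change res M inf_le_left (sf g) = res M inf_le_right (sf h)
      have hgh : (dOpen (g : R) ⊓ dOpen (h : R) :
          (Spec R).Opens) = dOpen ((g : R) * (h : R)) :=
        (dOpen_mul _ _).symm
      have hreg : IsSMulRegular (Sec M (dOpen (g : R) ⊓ dOpen (h : R) :
          (Spec R).Opens)) x := by
        rw [hgh]
        exact isSMulRegular_sec_basicOpen hx _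
      apply hreg.pow k
      simp only [← map_smul, hsf]
      rw [res_toSec, res_toSec]
    obtain ⟨s, hs', -⟩ := (modulesSpecToSheaf.obj (tilde M)).existsUnique_gluing'
      (fun g : J => dOpen (g : R))
      (cOpen J) (fun g => homOfLE (le_openCompl J g)) (openCompl_le J) sf hc
    obtain ⟨m', rfl⟩ := hs s
    refine ⟨m', sub_eq_zero.mp ?_⟩
    have h0 : toSec M (cOpen J) (x ^ k • m' - m) = 0 := by
      rw [map_sub, sub_eq_zero]
      refine ext_of_basicOpen J M fun g => ?_
      rw [map_smul, map_smul, res_toSec]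
      have e : res M (le_openCompl J g) (toSec M (cOpen J) m') = sf g := hs' g
      rw [res_toSec] at e
      rw [e, res_toSec]
      exact hsf g
    obtain ⟨n, hn⟩ := (toSec_eq_zero_iff J M _).mp h0 x hxJ
    exact hx.pow n (show x ^ n • _ = x ^ n • (0 : M) by rw [smul_zero]; exact hn)
  · intro H s
    obtain ⟨k, m, ht⟩ := exists_pow_smul_eq_toSec M x (res M (le_openCompl J ⟨x, hxJ⟩) s)
    have hs0 : x ^ k • s = toSec M (cOpen J) m := by
      refine ext_of_basicOpen J M fun g => ?_
      rw [map_smul, res_toSec]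
      obtain ⟨i, m', hm'⟩ := exists_pow_smul_eq_toSec M (g : R) (res M (le_openCompl J g) s)
      have hle1 : (dOpen ((g : R) * x) : (Spec R).Opens) ≤
          dOpen (g : R) := (dOpen_mul _ _).trans_le inf_le_left
      have hle2 : (dOpen ((g : R) * x) : (Spec R).Opens) ≤
          dOpen x := (dOpen_mul _ _).trans_le inf_le_right
      have e1 := congrArg (res M hle1) hm'
      have e2 := congrArg (res M hle2) ht
      rw [map_smul, res_res, res_toSec] at e1 e2
      have h0 : toSec M (dOpen ((g : R) * x)) ((g : R) ^ i • m - x ^ k • m') = 0 := by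
        rw [map_sub, map_smul, map_smul, ← e1, ← e2, smul_comm, sub_self]
      obtain ⟨N, hN⟩ := (toSec_basicOpen_eq_zero_iff M _ _).mp h0
      have h1 : (g : R) ^ N • ((g : R) ^ i • m - x ^ k • m') = 0 := hx.pow N
        (show x ^ N • _ = x ^ N • (0 : M) by
          rw [smul_zero, smul_smul, ← mul_pow, mul_comm x]; exact hN)
      have h2 : toSec M (dOpen (g : R)) ((g : R) ^ i • m - x ^ k • m') = 0 :=
        (toSec_basicOpen_eq_zero_iff M _ _).mpr ⟨N, h1⟩
      refine ((Module.End.isUnit_iff _).mp (IsLocalizedModule.map_units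
        (toSec M (dOpen (g : R))) (⟨_, i, rfl⟩ : Submonoid.powers (g : R)))).injective ?_
      simp only [Module.algebraMap_end_apply]
      rw [map_sub, map_smul, map_smul, ← hm', sub_eq_zero, smul_comm (x ^ k)] at h2
      exact h2.symm
    have hm : ∀ g ∈ J, ∃ n : ℕ, ∃ m' : M, x ^ k • m' = g ^ n • m := by
      intro g hg
      obtain ⟨i, m', hm'⟩ := exists_pow_smul_eq_toSec M g (res M (le_openCompl J ⟨g, hg⟩) s)
      have h0 : toSec M (dOpen g) (g ^ i • m - x ^ k • m') = 0 := by
        rw [map_sub, map_smul, map_smul, ← hm', ← res_toSec M (le_openCompl J ⟨g, hg⟩), ← hs0,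
          map_smul, smul_comm, sub_self]
      obtain ⟨N, hN⟩ := (toSec_basicOpen_eq_zero_iff M _ _).mp h0
      refine ⟨N + i, g ^ N • m', ?_⟩
      rw [smul_sub, sub_eq_zero] at hN
      rw [pow_add, mul_smul, hN, smul_comm]
    obtain ⟨m', rfl⟩ := H m k hm
    rw [map_smul] at hs0
    exact ⟨m', ((isSMulRegular_sec hx).pow k hs0).symm⟩

theorem bijective_res_iff {x : R} (hxJ : x ∈ J) (hx : IsSMulRegular M x) :
    Function.Bijective (res M (le_top : cOpen J ≤ ⊤)) ↔
      ∀ (m : M) (k : ℕ), (∀ g ∈ J, ∃ n : ℕ, ∃ m' : M, x ^ k • m' = g ^ n • m) →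
        ∃ m' : M, x ^ k • m' = m := by
  rw [← surjective_toSec_iff hxJ hx, ← res_top_comp]
  refine ⟨fun h => h.2.comp (toSec_top_bijective M).2, fun h => ⟨?_, h.of_comp⟩⟩
  rw [injective_res_iff]
  intro m hm
  obtain ⟨n, hn⟩ := hm x hxJ
  exact hx.pow n (show x ^ n • m = x ^ n • 0 by rw [smul_zero]; exact hn)

end Groth.Agent.ClosedAlong

namespace Groth.Agent.ClosedAlong

variable {A : Type u} [CommRing A] (J : Ideal A) (M : Type u) [AddCommGroup M] [Module A M]

theorem injective_restrCompl_iff :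
    Function.Injective (EGA4.restrCompl A J M) ↔
      ∀ m : M, (∀ g ∈ J, ∃ n : ℕ, g ^ n • m = 0) → m = 0 :=
  injective_res_iff (R := CommRingCat.of A) J (ModuleCat.of (CommRingCat.of A) M)

theorem bijective_restrCompl_iff {x : A} (hxJ : x ∈ J) (hx : IsSMulRegular M x) :
    Function.Bijective (EGA4.restrCompl A J M) ↔
      ∀ (m : M) (k : ℕ), (∀ g ∈ J, ∃ n : ℕ, ∃ m' : M, x ^ k • m' = g ^ n • m) →
        ∃ m' : M, x ^ k • m' = m :=
  bijective_res_iff (R := CommRingCat.of A) (M := ModuleCat.of (CommRingCat.of A) M) hxJ hx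

end Groth.Agent.ClosedAlong
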